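import Cfsg.Agent.H776.ThCtx
import Cfsg.Agent.H759.FusBasic

/-!
# Essential subgroups of the Sylow 3-subgroup of Th which move the centre: basic facts (helper347, task 1134)
-/

set_option autoImplicit false
set_option linter.style.longLine false

namespace Cfsg.Agent.H347.Th

open Subgroup Cfsg.Agent.H776.ThS

/-- element of the centre -/
def zt (t : ZMod 3) : P := ⟨0, 0, 0, 0, 0, 0, 0, 0, 0, t⟩

theorem zt_mem (t : ZMod 3) : zt t ∈ Z1 := ⟨rfl, rfl, rfl, rfl, rfl, rfl, rfl, rfl, rfl⟩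

theorem Z1_N5 {z : P} (hz : z ∈ Z1) : z ∈ N5 := ⟨hz.1, hz.2.1, hz.2.2.1, hz.2.2.2.1, hz.2.2.2.2.1⟩
theorem Z2_N5 {z : P} (hz : z ∈ Z2) : z ∈ N5 := ⟨hz.1, hz.2.1, hz.2.2.1, hz.2.2.2.1, hz.2.2.2.2.1⟩
theorem Z4_N5 {z : P} (hz : z ∈ Z4) : z ∈ N5 := ⟨hz.1, hz.2.1, hz.2.2.1, hz.2.2.2.1, hz.2.2.2.2.1⟩
theorem Z1_Z2 {z : P} (hz : z ∈ Z1) : z ∈ Z2 := by
  obtain ⟨h1, h2, h3, h4, h5, h6, h7, h8, -⟩ := hz
  exact ⟨h1, h2, h3, h4, h5, h6, h7, h8⟩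

/-- product in `N5` with an element of the centre -/
theorem mul_zt (x : P) (t : ZMod 3) : x * zt t = ⟨x.x1, x.x2, x.x3, x.x4, x.x5, x.x6, x.x7, x.x8, x.x9, x.x10 + t⟩ := by
  rw [mulN _ _ (Z1_N5 (zt_mem t))]
  ext <;> simp [zt]

theorem Z1_eq {z : P} (hz : z ∈ Z1) : z = zt z.x10 := by
  obtain ⟨h1, h2, h3, h4, h5, h6, h7, h8, h9⟩ := hz
  ext <;> simp [zt, h1, h2, h3, h4, h5, h6, h7, h8, h9]

theorem zt_mul (s t : ZMod 3) : zt s * zt t = zt (s + t) := by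
  rw [mul_zt]; rfl

theorem u10_pow (k : ℕ) : u10 ^ k = zt k := by
  induction k with
  | zero => rw [pow_zero, Nat.cast_zero]; rfl
  | succ k ih =>
    rw [pow_succ, ih]
    change zt _ * zt 1 = _
    rw [zt_mul, Nat.cast_succ]

theorem u10_pow_val (t : ZMod 3) : u10 ^ t.val = zt t := by
  rw [u10_pow, ZMod.natCast_zmod_val]

theorem u10_mem : u10 ∈ Z1 := zt_mem 1

theorem u10_pow_mem (k : ℕ) : u10 ^ k ∈ Z1 := pow_mem u10_mem k

theorem Z1_pow {z : P} (hz : z ∈ Z1) : z = u10 ^ z.x10.val := by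
  rw [u10_pow_val]; exact Z1_eq hz

/-- the centre is central -/
theorem Z1_comm {z : P} (hz : z ∈ Z1) (x : P) : z * x = x * z := by
  rw [N5_mul z x (Z1_N5 hz)]
  congr 1
  obtain ⟨h1, h2, h3, h4, h5, h6, h7, h8, h9⟩ := hz
  ext <;> simp [cx, h1, h2, h3, h4, h5, h6, h7, h8, h9]

theorem N5_comm {x y : P} (hx : x ∈ N5) (hy : y ∈ N5) : x * y = y * x := by
  rw [mulN x y hy, mulN y x hx]
  obtain ⟨h1, h2, h3, h4, h5⟩ := hx
  obtain ⟨g1, g2, g3, g4, g5⟩ := hy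
  ext <;> simp [h1, h2, h3, h4, h5, g1, g2, g3, g4, g5, add_comm]

theorem cx_eq {c x : P} (hc : c ∈ N5) (h : c * x = x * c) : cx c x = c := by
  rw [N5_mul c x hc] at h
  exact mul_left_cancel h

theorem N5_conj' {c : P} (hc : c ∈ N5) (x : P) : x * c * x⁻¹ ∈ N5 := by
  have h := N5_conj c x⁻¹ hc
  rw [inv_inv] at h
  rw [h]
  exact cx_mem _ _

theorem Z4_conj' {c : P} (hc : c ∈ Z4) (x : P) : x * c * x⁻¹ ∈ Z4 := by
  have h := N5_conj c x⁻¹ (Z4_N5 hc)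
  rw [inv_inv] at h
  rw [h]
  exact ⟨rfl, rfl, rfl, rfl, rfl, hc.2.2.2.2.2⟩

theorem Z4_X6_comm {c x : P} (hc : c ∈ Z4) (hx : x ∈ X6) : c * x = x * c := by
  rw [N5_mul c x (Z4_N5 hc)]
  congr 1
  obtain ⟨h1, h2, h3, h4, h5, h6⟩ := hc
  obtain ⟨g1, g2, g3, g4⟩ := hx
  ext <;> simp [cx, h1, h2, h3, h4, h5, h6, g1, g2, g3, g4]

theorem Z2_E1_comm {c x : P} (hc : c ∈ Z2) (hx : x ∈ E1) : c * x = x * c := by
  rw [N5_mul c x (Z2_N5 hc)]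
  congr 1
  rw [mem_E1] at hx
  obtain ⟨h1, h2, h3, h4, h5, h6, h7, h8⟩ := hc
  ext <;> simp [cx, h1, h2, h3, h4, h5, h6, h7, h8, hx]

/-- powers in `N5` -/
theorem N5_pow {c : P} (hc : c ∈ N5) (k : ℕ) : c ^ k = ⟨0, 0, 0, 0, 0, k * c.x6, k * c.x7, k * c.x8, k * c.x9, k * c.x10⟩ := by
  induction k with
  | zero => rw [pow_zero]; ext <;> simp [one_x1, one_x2, one_x3, one_x4, one_x5, one_x6, one_x7, one_x8, one_x9, one_x10]
  | succ k ih =>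
    rw [pow_succ, mulN _ _ hc, ih]
    ext <;> simp [add_mul]

theorem three_eq : (3 : ZMod 3) = 0 := rfl

theorem N5_cube {c : P} (hc : c ∈ N5) : c ^ 3 = 1 := by
  rw [N5_pow hc]
  ext <;> simp [three_eq, one_x1, one_x2, one_x3, one_x4, one_x5, one_x6, one_x7, one_x8, one_x9, one_x10]

theorem u10_cube : u10 ^ 3 = 1 := N5_cube (Z1_N5 u10_mem)

theorem pow_x1 (x : P) (k : ℕ) : (x ^ k).x1 = k * x.x1 := by
  induction k with
  | zero => simp [one_x1]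
  | succ k ih => rw [pow_succ, mul_x1, ih, Nat.cast_succ]; ring

theorem X6_pow_x5 {x : P} (hx : x ∈ X6) (k : ℕ) : (x ^ k).x5 = k * x.x5 := by
  induction k with
  | zero => simp [one_x5]
  | succ k ih =>
    obtain ⟨h1, h2, h3, h4⟩ := hx
    rw [pow_succ, mul_x5, ih, h1, Nat.cast_succ]; ring

/-- the orbit of `u10` -/
def Orb (A : Set (P → P)) : Set P := {x | ∃ a ∈ A, x = a u10}

variable {Q : Subgroup P} {A : Set (P → P)}

theorem u10_Q (h : Ctx Q A) : u10 ∈ Q := h.cent _ fun q _ => Z1_comm u10_mem q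

theorem Z1_Q (h : Ctx Q A) {z : P} (hz : z ∈ Z1) : z ∈ Q := h.cent _ fun q _ => Z1_comm hz q

theorem orb_self (h : Ctx Q A) : u10 ∈ Orb A := ⟨_, h.id_mem, rfl⟩

theorem orb_Q (h : Ctx Q A) {o : P} (ho : o ∈ Orb A) : o ∈ Q := by
  obtain ⟨a, ha, rfl⟩ := ho
  exact h.maps a ha _ (u10_Q h)

theorem orb_cube (h : Ctx Q A) {o : P} (ho : o ∈ Orb A) : o ^ 3 = 1 := by
  obtain ⟨a, ha, rfl⟩ := ho
  rw [← h.map_pow ha (u10_Q h), u10_cube, h.one ha]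

theorem orb_map (h : Ctx Q A) {a : P → P} (ha : a ∈ A) {o : P} (ho : o ∈ Orb A) : a o ∈ Orb A := by
  obtain ⟨b, hb, rfl⟩ := ho
  exact ⟨_, h.comp a ha b hb, rfl⟩

theorem orb_comm (h : Ctx Q A) {o x : P} (ho : o ∈ Orb A) (hx : x ∈ Q) : x * o = o * x := by
  obtain ⟨a, ha, rfl⟩ := ho
  obtain ⟨g, hg, hag⟩ := h.inv a ha
  have h1 := h.mul a ha (g x) (h.maps g hg x hx) u10 (u10_Q h)
  have h2 := h.mul a ha u10 (u10_Q h) (g x) (h.maps g hg x hx)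
  rw [(hag x hx).2] at h1 h2
  rw [← h1, ← h2, Z1_comm u10_mem]

/-- an element commuting with the orbit is in `Q` -/
theorem mem_Q (h : Ctx Q A) (hSE : SE Q A Z1) (hmov : ∃ a ∈ A, a u10 ∉ Z1) {x : P}
    (hx : ∀ o ∈ Orb A, x * o = o * x) : x ∈ Q := by
  by_contra hxQ
  let C : Subgroup P := centralizer (Orb A)
  have hQC : Q ≤ C := by
    intro q hq
    rw [mem_centralizer_iff]
    intro o ho
    exact (orb_comm h ho hq).symm
  have hlt : Q < C := lt_of_le_of_ne hQC (by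
    rintro rfl
    apply hxQ
    rw [mem_centralizer_iff]
    exact fun o ho => (hx o ho).symm)
  have : Fact (Nat.Prime 3) := ⟨Nat.prime_three⟩
  obtain ⟨n, hnC, hnQ, hn⟩ := Cfsg.Agent.H759.exists_mem_normalizer_not_mem (S := (⊤ : Subgroup P)) (p := 3)
    (isPGroup_P.to_subgroup ⊤) (R := C) le_top hlt
  obtain ⟨a, ha, haz⟩ := hmov
  have hnO : ∀ b ∈ A, ∀ w ∈ Z1, ∃ w' ∈ Z1, n * b w * n⁻¹ = b w' := by
    intro b hb w hw
    refine ⟨w, hw, ?_⟩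
    rw [Z1_pow hw, h.map_pow hb (u10_Q h)]
    have h1 : Commute n (b u10) := (mem_centralizer_iff.1 hnC (b u10) ⟨b, hb, rfl⟩).symm
    rw [(h1.pow_right _).eq, mul_inv_cancel_right]
  obtain ⟨w', hw', e⟩ := SE.conj hSE h hn hnQ ha h.id_mem (hnO a ha) (hnO _ h.id_mem) u10 u10_mem
  exact haz (by rw [e]; exact hw')

/-- the statement of `t1z` -/
def T1Z : Prop :=
  ∀ (Q : Subgroup P) (A : Set (P → P)), Ctx Q A → SE Q A Z1 → (∃ a ∈ A, a u10 ∉ Z1) →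
    ∀ y r : P, y ∈ normalizer (Q : Set P) → y ∉ Q → r ∈ closure {x | ∃ a ∈ A, x = a u10} → r ^ 3 = 1 → y * r = r * y →
    (∀ a ∈ A, ∃ k : ℕ, y * a u10 * y⁻¹ = a u10 * r ^ k) →
    r ∈ Z1 ∧
    (∀ a ∈ A, a u10 ∉ Z1 → ∀ b ∈ A, ∃ i j : ℕ, b u10 = a u10 ^ i * u10 ^ j) ∧
    (∀ a ∈ A, a u10 ∉ Z1 → ∀ i j : ℕ, ∃ b ∈ A, ∃ k : ℕ, a u10 ^ i * u10 ^ j = b u10 ^ k) ∧
    (∀ n ∈ normalizer (Q : Set P), ∃ k : ℕ, n * y ^ k ∈ Q)

theorem mem_normalizer_of {n : P} (hn : ∀ x ∈ Q, n * x * n⁻¹ ∈ Q) : n ∈ normalizer (Q : Set P) := by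
  have : Finite (Q : Set P) := inferInstance
  exact mem_normalizer_fintype hn

/-- the case of a transvection with centre `u10` -/
theorem t1 (T : T1Z) (h : Ctx Q A) (hSE : SE Q A Z1) (hmov : ∃ a ∈ A, a u10 ∉ Z1) {y : P}
    (hy : ∀ o ∈ Orb A, ∃ z ∈ Z1, y * o = o * y * z) (hne : ∃ o ∈ Orb A, y * o ≠ o * y) :
    (∀ o ∈ Orb A, o ∉ Z1 → ∀ x, x * o = o * x → x ∈ Q) ∧
    (∀ o ∈ Orb A, ∀ n ∈ normalizer (Q : Set P), ∃ z ∈ Z1, n * o = o * n * z) := by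
  have hyN : y ∈ normalizer (Q : Set P) := by
    apply mem_normalizer_of
    intro x hx
    apply mem_Q h hSE hmov
    intro o ho
    obtain ⟨z, hz, e⟩ := hy o ho
    have h1 : y⁻¹ * o * y = o * z⁻¹ := by
      rw [mul_assoc, inv_mul_eq_iff_eq_mul, ← mul_assoc, e, mul_assoc, mul_inv_cancel, mul_one]
    have h2 : x * (y⁻¹ * o * y) = (y⁻¹ * o * y) * x := by
      rw [h1, ← mul_assoc, orb_comm h ho hx, mul_assoc, mul_assoc, Z1_comm (inv_mem hz)]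
    calc y * x * y⁻¹ * o = y * (x * (y⁻¹ * o * y)) * y⁻¹ := by group
      _ = y * ((y⁻¹ * o * y) * x) * y⁻¹ := by rw [h2]
      _ = o * (y * x * y⁻¹) := by group
  have hyQ : y ∉ Q := by
    intro hyQ
    obtain ⟨o, ho, e⟩ := hne
    exact e (orb_comm h ho hyQ)
  obtain ⟨-, h2, -, h4⟩ := T Q A h hSE hmov y u10 hyN hyQ (subset_closure (orb_self h)) u10_cube
    (Z1_comm u10_mem y).symm (fun a ha => by
      obtain ⟨z, hz, e⟩ := hy (a u10) ⟨a, ha, rfl⟩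
      refine ⟨z.x10.val, ?_⟩
      rw [← Z1_pow hz, e, mul_assoc, Z1_comm hz, mul_assoc, mul_inv_cancel_left])
  refine ⟨?_, ?_⟩
  · rintro _ ⟨a, ha, rfl⟩ haz x hx
    apply mem_Q h hSE hmov
    rintro _ ⟨b, hb, rfl⟩
    obtain ⟨i, j, e⟩ := h2 a ha haz b hb
    rw [e]
    have c1 : Commute x (a u10) := hx
    have c2 : Commute x u10 := (Z1_comm u10_mem x).symm
    exact ((c1.pow_right i).mul_right (c2.pow_right j)).eq
  · intro o ho n hn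
    obtain ⟨k, hk⟩ := h4 n hn
    obtain ⟨z, hz, e⟩ := hy o ho
    have h5 : ∀ m : ℕ, y ^ m * o = o * y ^ m * z ^ m := by
      intro m
      induction m with
      | zero => simp
      | succ m ih =>
        rw [pow_succ y, mul_assoc, e, ← mul_assoc, ← mul_assoc, ih, pow_succ z]
        have c : Commute (z ^ m) y := Z1_comm (pow_mem hz m) y
        rw [mul_assoc (o * y ^ m), c.eq]
        simp only [mul_assoc]
    have h6 := orb_comm h ho hk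
    refine ⟨(z ^ k)⁻¹, inv_mem (pow_mem hz k), ?_⟩
    have h7 : n = (n * y ^ k) * (y ^ k)⁻¹ := by group
    have h8 : (y ^ k)⁻¹ * o = o * (y ^ k)⁻¹ * (z ^ k)⁻¹ := by
      have c : (z ^ k)⁻¹ * y ^ k = y ^ k * (z ^ k)⁻¹ := Z1_comm (inv_mem (pow_mem hz k)) _
      rw [inv_mul_eq_iff_eq_mul, ← mul_assoc, ← mul_assoc, h5]
      rw [mul_assoc o, mul_assoc (o * _)]
      have c2 : z ^ k * (y ^ k)⁻¹ = (y ^ k)⁻¹ * z ^ k := Z1_comm (pow_mem hz k) _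
      rw [mul_assoc, mul_assoc, ← mul_assoc (z ^ k), c2]
      group
    calc n * o = (n * y ^ k) * ((y ^ k)⁻¹ * o) := by group
      _ = (n * y ^ k) * (o * (y ^ k)⁻¹ * (z ^ k)⁻¹) := by rw [h8]
      _ = ((n * y ^ k) * o) * (y ^ k)⁻¹ * (z ^ k)⁻¹ := by group
      _ = (o * (n * y ^ k)) * (y ^ k)⁻¹ * (z ^ k)⁻¹ := by rw [h6]
      _ = o * n * (z ^ k)⁻¹ := by group

end Cfsg.Agent.H347.Th
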