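import Cfsg.Agent.H347.Th.Basic

/-!
# The cases (i), (ii) and (iii-a) (helper347, task 1134)
-/

set_option autoImplicit false
set_option linter.style.longLine false

namespace Cfsg.Agent.H347.Th

open Subgroup Cfsg.Agent.H776.ThS

variable {Q : Subgroup P} {A : Set (P → P)}

theorem u9_N5 : u9 ∈ N5 := ⟨rfl, rfl, rfl, rfl, rfl⟩
theorem u8_N5 : u8 ∈ N5 := ⟨rfl, rfl, rfl, rfl, rfl⟩
theorem u7_N5 : u7 ∈ N5 := ⟨rfl, rfl, rfl, rfl, rfl⟩
theorem u6_N5 : u6 ∈ N5 := ⟨rfl, rfl, rfl, rfl, rfl⟩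

/-- an element of `P` with `n * o = o * n * z`, `o ∈ N5` -/
theorem cx_of_comm {o n z : P} (ho : o ∈ N5) (e : n * o = o * n * z) : o = cx o n * z := by
  rw [N5_mul o n ho, mul_assoc] at e
  exact mul_left_cancel e

/-- (i) -/
theorem case_i (T : T1Z) (h : Ctx Q A) (hSE : SE Q A Z1) (hmov : ∃ a ∈ A, a u10 ∉ Z1)
    (hc : ∃ o ∈ Orb A, o ∉ E1) : False := by
  obtain ⟨v, hv, hv1⟩ := hc
  have hcx : ∀ o : P, cx u9 o = u9 * zt o.x1 := by
    intro o
    rw [mul_zt]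
    ext <;> simp [cx, u9]
  have hH : ∀ o ∈ Orb A, ∃ z ∈ Z1, u9 * o = o * u9 * z := by
    intro o _
    refine ⟨zt o.x1, zt_mem _, ?_⟩
    rw [N5_mul u9 o u9_N5, hcx, mul_assoc]
  have hne : ∃ o ∈ Orb A, u9 * o ≠ o * u9 := by
    refine ⟨v, hv, fun e => hv1 ?_⟩
    have e1 := cx_eq u9_N5 e
    rw [hcx, mul_zt] at e1
    have e2 := congrArg V.x10 e1
    rw [mem_E1]
    simpa [u9] using e2
  obtain ⟨hA, hB⟩ := t1 T h hSE hmov hH hne
  have hvZ : v ∉ Z1 := fun hz => hv1 hz.1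
  have hQ := hA v hv hvZ
  have hv3 := orb_cube h hv
  have hv2 := mem_E2_of_cube hv3 hv1
  rw [mem_E1] at hv1
  rw [mem_E2] at hv2
  -- `u7`
  let f : P := ⟨0, 0, 0, 0, 0, 0, 0, -v.x1, (cx u7 v).x9, (cx u7 v).x10⟩
  have hf5 : f ∈ N5 := ⟨rfl, rfl, rfl, rfl, rfl⟩
  have hf : u7 * v = v * (f * u7) := by
    rw [N5_mul u7 v u7_N5, mulN f u7 u7_N5]
    congr 1
    ext <;> simp [f, cx, u7]
  have hfv : f * v = v * f := by
    rw [N5_mul f v hf5]
    congr 1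
    ext <;> simp [f, cx, hv2, u7]
    ring
  have h7 : u7 ∈ normalizer (Q : Set P) := by
    apply mem_normalizer_of
    intro x hx
    obtain ⟨k, hk⟩ : ∃ k : ℕ, (k : ZMod 3) * v.x1 = x.x1 := by
      refine ⟨(x.x1 * v.x1⁻¹).val, ?_⟩
      rw [ZMod.natCast_zmod_val, mul_assoc, inv_mul_cancel₀ hv1, mul_one]
    have hcv : Commute x v := orb_comm h hv hx
    have he1 : ((v ^ k)⁻¹ * x) ∈ E1 := by
      rw [mem_E1]
      have h1 : ((v ^ k) * ((v ^ k)⁻¹ * x)).x1 = x.x1 := by rw [mul_inv_cancel_left]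
      rw [mul_x1, pow_x1, hk] at h1
      linear_combination h1
    have hce : Commute ((v ^ k)⁻¹ * x) v :=
      ((Commute.refl v).pow_left k).inv_left.mul_left hcv
    have he : ((v ^ k)⁻¹ * x) ∈ X6 :=
      cent_E2E1 (v := v) (by rwa [mem_E1]) (by rwa [mem_E2]) hv3 he1 (one_mem Z1) (by rw [mul_one]; exact hce)
    have h7e : u7 * ((v ^ k)⁻¹ * x) = ((v ^ k)⁻¹ * x) * u7 := Z4_X6_comm ⟨rfl, rfl, rfl, rfl, rfl, rfl⟩ he
    have h7v : u7 * v * u7⁻¹ = v * f := by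
      rw [hf, mul_assoc, mul_inv_cancel_right]
    apply hQ
    have h8 : u7 * x * u7⁻¹ = (v * f) ^ k * ((v ^ k)⁻¹ * x) := by
      have h9 : u7 * ((v ^ k)⁻¹ * x) * u7⁻¹ = (v ^ k)⁻¹ * x := by rw [h7e, mul_inv_cancel_right]
      rw [← h7v, conj_pow]
      conv_rhs => rw [← h9]
      group
    rw [h8]
    have c1 : Commute (v * f) v := (Commute.refl v).mul_left hfv
    exact ((c1.pow_left k).mul_left hce).eq
  obtain ⟨z, hz, e⟩ := hB v hv u7 h7
  have e3 : v * (f * u7) = v * (u7 * z) := by rw [← hf, e, mul_assoc]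
  have e4 := mul_left_cancel e3
  rw [mulN f u7 u7_N5, mulN u7 z (Z1_N5 hz)] at e4
  have e5 := congrArg V.x8 e4
  obtain ⟨-, -, -, -, -, -, -, z8, -⟩ := hz
  simp [f, u7, z8] at e5
  exact hv1 e5

/-- (ii) -/
theorem case_ii (T : T1Z) (h : Ctx Q A) (hSE : SE Q A Z1) (hmov : ∃ a ∈ A, a u10 ∉ Z1)
    (hN : ∀ o ∈ Orb A, o ∈ N5) (hc : ∃ o ∈ Orb A, o ∉ Z2) : False := by
  obtain ⟨v, hv, hv2⟩ := hc
  have hvN := hN v hv
  have hY : ∃ y : P, (∀ o ∈ Orb A, ∃ z ∈ Z1, y * o = o * y * z) ∧ ∃ o ∈ Orb A, y * o ≠ o * y := by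
    have aux : ∀ (y : P) (t : P → ZMod 3), (∀ o ∈ Orb A, cx o y = o * zt (t o)) → (∃ o ∈ Orb A, t o ≠ 0) →
        (∀ o ∈ Orb A, ∃ z ∈ Z1, y * o = o * y * z) ∧ ∃ o ∈ Orb A, y * o ≠ o * y := by
      intro y t ht ht0
      have hyo : ∀ o ∈ Orb A, o * y = y * o * zt (t o) := by
        intro o ho
        rw [N5_mul o y (hN o ho), ht o ho, mul_assoc]
      refine ⟨fun o ho => ⟨(zt (t o))⁻¹, inv_mem (zt_mem _), by rw [hyo o ho, mul_inv_cancel_right]⟩, ?_⟩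
      obtain ⟨o, ho, h0⟩ := ht0
      refine ⟨o, ho, fun e => h0 ?_⟩
      have e1 := hyo o ho
      rw [e] at e1
      have e2 : zt (t o) = 1 := (left_eq_mul.1 e1)
      exact congrArg V.x10 e2
    by_cases d6 : ∃ o ∈ Orb A, o.x6 ≠ 0
    · refine ⟨u5, aux u5 (fun o => o.x6) (fun o ho => ?_) d6⟩
      obtain ⟨h1, h2, h3, h4, h5⟩ := hN o ho
      rw [mul_zt]
      ext <;> simp [cx, u5, h1, h2, h3, h4, h5]
    · push Not at d6
      by_cases d7 : ∃ o ∈ Orb A, o.x7 ≠ 0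
      · refine ⟨u4, aux u4 (fun o => -o.x7) (fun o ho => ?_) (by simpa using d7)⟩
        obtain ⟨h1, h2, h3, h4, h5⟩ := hN o ho
        rw [mul_zt]
        ext <;> simp [cx, u4, h1, h2, h3, h4, h5, d6 o ho, sub_eq_add_neg]
      · push Not at d7
        refine ⟨u3, aux u3 (fun o => -o.x8) (fun o ho => ?_) ⟨v, hv, ?_⟩⟩
        · obtain ⟨h1, h2, h3, h4, h5⟩ := hN o ho
          rw [mul_zt]
          ext <;> simp [cx, u3, h1, h2, h3, h4, h5, d6 o ho, d7 o ho, sub_eq_add_neg]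
        · rw [neg_ne_zero]
          intro h8
          obtain ⟨h1, h2, h3, h4, h5⟩ := hN v hv
          exact hv2 ⟨h1, h2, h3, h4, h5, d6 v hv, d7 v hv, h8⟩
  obtain ⟨y, hH, hne⟩ := hY
  obtain ⟨hA, hB⟩ := t1 T h hSE hmov hH hne
  have hvZ : v ∉ Z1 := fun hz => hv2 (Z1_Z2 hz)
  have hQ := hA v hv hvZ
  have hNQ : ∀ c ∈ N5, c ∈ Q := fun c hc => mem_Q h hSE hmov fun o ho => N5_comm hc (hN o ho)
  by_cases hE : ∀ x ∈ Q, x ∈ E1
  · have hE1 : ∀ e ∈ E1, e ∈ normalizer (Q : Set P) := by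
      intro e he
      apply mem_normalizer_of
      intro x hx
      have e1 : e * x * e⁻¹ = x * (e * ce e x * e⁻¹) := by
        rw [E1_mul e x he (hE x hx)]
        group
      rw [e1]
      exact mul_mem hx (hNQ _ (N5_conj' (ce_mem e x) e))
    have h9 : ∀ e ∈ E1, (cx v e).x9 = v.x9 := by
      intro e he
      obtain ⟨z, hz, e2⟩ := hB v hv e (hE1 e he)
      have e3 := cx_of_comm hvN e2
      rw [mulN _ _ (Z1_N5 hz)] at e3
      have e4 := congrArg V.x9 e3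
      obtain ⟨-, -, -, -, -, -, -, -, z9⟩ := hz
      simp only [z9, add_zero] at e4
      exact e4.symm
    have h6 : v.x6 = 0 := by
      have := h9 u4 rfl
      simpa [cx, u4] using this
    have h7 : v.x7 = 0 := by
      have := h9 u3 rfl
      simpa [cx, u3] using this
    have h8 : v.x8 = 0 := by
      have := h9 u2 rfl
      simpa [cx, u2, h6] using this
    obtain ⟨h1, h2, h3, h4, h5⟩ := hvN
    exact hv2 ⟨h1, h2, h3, h4, h5, h6, h7, h8⟩
  · push Not at hE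
    obtain ⟨q, hq, hq1⟩ := hE
    rw [mem_E1] at hq1
    have hcom : ∀ x ∈ Q, cx v x = v := fun x hx => cx_eq hvN (orb_comm h hv hx).symm
    have v6 : v.x6 = 0 := by
      have e := congrArg V.x7 (hcom q hq)
      have e' : v.x7 + q.x1 * v.x6 = v.x7 := e
      have : q.x1 * v.x6 = 0 := by linear_combination e'
      exact (mul_eq_zero.1 this).resolve_left hq1
    have v7 : v.x7 = 0 := by
      have e' : v.x8 - q.x1 * v.x7 + q.x1 ^ 2 * v.x6 = v.x8 := congrArg V.x8 (hcom q hq)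
      rw [v6] at e'
      have : q.x1 * v.x7 = 0 := by linear_combination -e'
      exact (mul_eq_zero.1 this).resolve_left hq1
    have v8 : v.x8 ≠ 0 := by
      intro v8
      obtain ⟨h1, h2, h3, h4, h5⟩ := hvN
      exact hv2 ⟨h1, h2, h3, h4, h5, v6, v7, v8⟩
    have hx2 : ∀ x ∈ Q, x.x2 = 0 := by
      intro x hx
      have e' : v.x9 - x.x4 * v.x6 - x.x3 * v.x7 - x.x2 * v.x8 + x.x2 * v.x6 - x.x1 * x.x3 * v.x6
        + x.x1 * x.x2 * v.x7 - x.x1 ^ 2 * x.x2 * v.x6 = v.x9 := congrArg V.x9 (hcom x hx)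
      rw [v6, v7] at e'
      have : x.x2 * v.x8 = 0 := by linear_combination -e'
      exact (mul_eq_zero.1 this).resolve_right v8
    have hx3 : ∀ x ∈ Q, x.x3 * v.x8 = x.x1 * v.x9 := by
      intro x hx
      have e' : v.x10 + x.x5 * v.x6 - x.x4 * v.x7 - x.x3 * v.x8 + x.x3 * v.x6 + x.x2 * v.x7 + x.x1 * v.x9
        - x.x1 * x.x4 * v.x6 + x.x1 * x.x3 * v.x7 + x.x1 * x.x2 * v.x6 - x.x1 ^ 2 * x.x3 * v.x6 = v.x10 :=
        congrArg V.x10 (hcom x hx)
      rw [v6, v7] at e'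
      linear_combination -e'
    have claim1 : ∀ x ∈ Q, ∀ y ∈ Q, ∃ n ∈ Z4, x * y = y * x * n := by
      intro x hx y hy
      have x2 := hx2 x hx
      have y2 := hx2 y hy
      have h34 : x.x3 * y.x1 = y.x3 * x.x1 := by
        have h1 := hx3 x hx
        have h2 := hx3 y hy
        have : (x.x3 * y.x1 - y.x3 * x.x1) * v.x8 = 0 := by linear_combination y.x1 * h1 - x.x1 * h2
        have := (mul_eq_zero.1 this).resolve_right v8
        linear_combination this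
      refine ⟨_, ?_, exists_N5 (x * y) (y * x) ?_ ?_ ?_ ?_ ?_⟩
      · refine ⟨rfl, rfl, rfl, rfl, rfl, ?_⟩
        change (x * y).x6 - (y * x).x6 = 0
        rw [mul_x6, mul_x6, x2, y2]
        ring
      · rw [mul_x1, mul_x1, add_comm]
      · rw [mul_x2, mul_x2, add_comm]
      · rw [mul_x3, mul_x3, x2, y2]; ring
      · rw [mul_x4, mul_x4, x2, y2]
        linear_combination -h34
      · rw [mul_x5, mul_x5, x2, y2]; ring
    obtain ⟨a, ha, haz⟩ := hmov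
    obtain ⟨g, hg, hag⟩ := h.inv a ha
    let κ : P := ⟨0, 0, 0, 0, 0, 0, (cx u6 q).x7, (cx u6 q).x8, (cx u6 q).x9, (cx u6 q).x10⟩
    have hκN : κ ∈ N5 := ⟨rfl, rfl, rfl, rfl, rfl⟩
    have hκ7 : κ.x7 = q.x1 := by simp [κ, cx, u6]
    have hκ : u6 * q = q * u6 * κ := by
      rw [N5_mul u6 q u6_N5, mul_assoc q, mulN u6 κ hκN]
      congr 1
      ext <;> simp [κ, cx, u6]
    have u5Q : u5 ∈ Q := by
      apply hQ
      rw [N5_mul v u5 hvN]
      congr 1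
      obtain ⟨h1, h2, h3, h4, h5⟩ := hvN
      ext <;> simp [cx, u5, v6, h1, h2, h3, h4, h5]
    have u6Q : u6 ∈ Q := hNQ _ u6_N5
    have κQ : κ ∈ Q := hNQ _ hκN
    have gκ : g κ ∈ Z4 := by
      have e1 := congrArg g hκ
      rw [h.mul g hg _ u6Q _ hq, h.mul g hg _ (mul_mem hq u6Q) _ κQ, h.mul g hg _ hq _ u6Q] at e1
      obtain ⟨n, hn, e2⟩ := claim1 _ (h.maps g hg _ u6Q) _ (h.maps g hg _ hq)
      rw [e2] at e1
      rw [← mul_left_cancel e1]
      exact hn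
    have claim2 : ∀ x ∈ Q, κ * x = x * κ → x ∈ X6 := by
      intro x hx e
      have e1 := cx_eq hκN e
      have x2 := hx2 x hx
      have hκ6 : κ.x6 = 0 := rfl
      have κ7 : κ.x7 ≠ 0 := by rw [hκ7]; exact hq1
      have x1 : x.x1 = 0 := by
        have e' : κ.x8 - x.x1 * κ.x7 + x.x1 ^ 2 * κ.x6 = κ.x8 := congrArg V.x8 e1
        have : x.x1 * κ.x7 = 0 := by linear_combination -e' + x.x1 ^ 2 * hκ6
        exact (mul_eq_zero.1 this).resolve_right κ7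
      have x3 : x.x3 = 0 := by
        have e' : κ.x9 - x.x4 * κ.x6 - x.x3 * κ.x7 - x.x2 * κ.x8 + x.x2 * κ.x6 - x.x1 * x.x3 * κ.x6
          + x.x1 * x.x2 * κ.x7 - x.x1 ^ 2 * x.x2 * κ.x6 = κ.x9 := congrArg V.x9 e1
        rw [hκ6, x1, x2] at e'
        have : x.x3 * κ.x7 = 0 := by linear_combination -e'
        exact (mul_eq_zero.1 this).resolve_right κ7
      have x4 : x.x4 = 0 := by
        have e' : κ.x10 + x.x5 * κ.x6 - x.x4 * κ.x7 - x.x3 * κ.x8 + x.x3 * κ.x6 + x.x2 * κ.x7 + x.x1 * κ.x9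
          - x.x1 * x.x4 * κ.x6 + x.x1 * x.x3 * κ.x7 + x.x1 * x.x2 * κ.x6 - x.x1 ^ 2 * x.x3 * κ.x6 = κ.x10 :=
          congrArg V.x10 e1
        rw [hκ6, x1, x2, x3] at e'
        have : x.x4 * κ.x7 = 0 := by linear_combination -e'
        exact (mul_eq_zero.1 this).resolve_right κ7
      exact ⟨x1, x2, x3, x4⟩
    have claim3 : ∀ c ∈ X6, c ∈ Q → a c ∈ X6 := by
      intro c hc hcQ
      apply claim2 _ (h.maps a ha c hcQ)
      have e1 := congrArg a (Z4_X6_comm gκ hc)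
      rw [h.mul a ha _ (h.maps g hg _ κQ) _ hcQ, h.mul a ha _ hcQ _ (h.maps g hg _ κQ), (hag κ κQ).2] at e1
      exact e1
    have a5 := claim3 u5 ⟨rfl, rfl, rfl, rfl⟩ u5Q
    have a6 := claim3 u6 ⟨rfl, rfl, rfl, rfl⟩ u6Q
    have e1 : u6 * u5 = u5 * u6 * u10 := by
      rw [N5_mul u6 u5 u6_N5, mul_assoc]
      congr 1
      change _ = u6 * zt 1
      rw [mul_zt]
      ext <;> simp [cx, u6, u5]
    have e2 := congrArg a e1
    rw [h.mul a ha _ u6Q _ u5Q, h.mul a ha _ (mul_mem u5Q u6Q) _ (u10_Q h), h.mul a ha _ u5Q _ u6Q,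
      E1_mul (a u6) (a u5) a6.1 a5.1] at e2
    have e3 := mul_left_cancel e2
    apply haz
    rw [← e3]
    obtain ⟨s1, s2, s3, s4⟩ := a5
    obtain ⟨t1, t2, t3, t4⟩ := a6
    refine ⟨rfl, rfl, rfl, rfl, rfl, ?_, ?_, ?_, ?_⟩
    · change (a u6).x5 * (a u5).x2 - (a u5).x5 * (a u6).x2 = 0
      rw [s2, t2]; ring
    · change (a u6).x5 * (a u5).x3 - (a u6).x4 * (a u5).x2 - (a u5).x5 * (a u6).x3 + (a u5).x4 * (a u6).x2 = 0
      rw [s2, t2, s3, t3]; ring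
    · change (a u6).x5 * (a u5).x4 - (a u6).x4 * (a u5).x3 - (a u5).x5 * (a u6).x4 + (a u5).x4 * (a u6).x3 = 0
      rw [s3, t3, s4, t4]; ring
    · change (a u6 * a u5).x9 - (a u5 * a u6).x9 = 0
      rw [mulE_x9 _ _ s1, mulE_x9 _ _ t1, s2, t2, s3, t3, s4, t4]; ring

/-- (iii-a) -/
theorem case_iiia (T : T1Z) (h : Ctx Q A) (hSE : SE Q A Z1) (hmov : ∃ a ∈ A, a u10 ∉ Z1)
    (hX : ∀ o ∈ Orb A, o ∈ X6) (hc : ∃ o ∈ Orb A, o ∉ N5) : False := by
  obtain ⟨v, hv, hvN⟩ := hc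
  have hvX := hX v hv
  have v5 : v.x5 ≠ 0 := by
    intro v5
    obtain ⟨h1, h2, h3, h4⟩ := hvX
    exact hvN ⟨h1, h2, h3, h4, v5⟩
  have hcx : ∀ o ∈ X6, cx u6 o = u6 * zt o.x5 := by
    intro o ho
    obtain ⟨h1, h2, h3, h4⟩ := ho
    rw [mul_zt]
    ext <;> simp [cx, u6, h1, h2, h3, h4]
  have hH : ∀ o ∈ Orb A, ∃ z ∈ Z1, u6 * o = o * u6 * z := by
    intro o ho
    refine ⟨zt o.x5, zt_mem _, ?_⟩
    rw [N5_mul u6 o u6_N5, hcx o (hX o ho), mul_assoc]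
  have hne : ∃ o ∈ Orb A, u6 * o ≠ o * u6 := by
    refine ⟨v, hv, fun e => v5 ?_⟩
    have e1 := cx_eq u6_N5 e
    rw [hcx v hvX, mul_zt] at e1
    have e2 := congrArg V.x10 e1
    simpa [u6] using e2
  obtain ⟨hA, hB⟩ := t1 T h hSE hmov hH hne
  have hvZ : v ∉ Z1 := fun hz => hvN (Z1_N5 hz)
  have hQ := hA v hv hvZ
  obtain ⟨w1, w2, w3, w4⟩ := hvX
  -- elements of `Q`
  have hx2 : ∀ x ∈ Q, x.x2 = 0 := by
    intro x hx
    have e := congrArg V.x6 (orb_comm h hv hx)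
    rw [mul_x6, mul_x6, w1, w2] at e
    have : v.x5 * x.x2 = 0 := by linear_combination -e
    exact (mul_eq_zero.1 this).resolve_left v5
  have hx3 : ∀ x ∈ Q, v.x5 * x.x3 = -(v.x6 * x.x1) := by
    intro x hx
    have e := congrArg V.x7 (orb_comm h hv hx)
    rw [mul_x7, mul_x7, w1, w2, w3, w4, hx2 x hx] at e
    linear_combination -e
  have hx4 : ∀ x ∈ Q, v.x5 * x.x4 = v.x7 * x.x1 - v.x6 * x.x1 ^ 2 := by
    intro x hx
    have e := congrArg V.x8 (orb_comm h hv hx)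
    rw [mul_x8, mul_x8, w1, w2, w3, w4, hx2 x hx] at e
    linear_combination -e
  by_cases hE : ∀ x ∈ Q, x ∈ E1
  · have hQX : ∀ x ∈ Q, x ∈ X6 := by
      intro x hx
      have x1 := mem_E1.1 (hE x hx)
      refine ⟨x1, hx2 x hx, ?_, ?_⟩
      · have e := hx3 x hx
        rw [x1, mul_zero, neg_zero] at e
        exact (mul_eq_zero.1 e).resolve_left v5
      · have e := hx4 x hx
        rw [x1] at e
        have : v.x5 * x.x4 = 0 := by linear_combination e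
        exact (mul_eq_zero.1 this).resolve_left v5
    have hce : ∀ x ∈ X6, ce u4 x ∈ Z4 := by
      intro x hx
      obtain ⟨h1, h2, h3, h4⟩ := hx
      refine ⟨rfl, rfl, rfl, rfl, rfl, ?_⟩
      simp [ce, u4, h2]
    have h4 : u4 ∈ normalizer (Q : Set P) := by
      apply mem_normalizer_of
      intro x hx
      have hxX := hQX x hx
      have e1 : u4 * x * u4⁻¹ = x * (u4 * ce u4 x * u4⁻¹) := by
        rw [E1_mul u4 x rfl hxX.1]
        group
      rw [e1]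
      apply hQ
      have c1 : Commute x v := orb_comm h hv hx
      have c2 : Commute (u4 * ce u4 x * u4⁻¹) v := Z4_X6_comm (Z4_conj' (hce x hxX) u4) ⟨w1, w2, w3, w4⟩
      exact (c1.mul_left c2).eq
    obtain ⟨z, hz, e⟩ := hB v hv u4 h4
    rw [E1_mul u4 v rfl w1] at e
    have e2 := mul_left_cancel e
    have e3 := congrArg V.x8 e2
    rw [hz.2.2.2.2.2.2.2.1] at e3
    have e4 : -v.x3 - v.x5 = 0 := by
      have : (ce u4 v).x8 = -v.x3 - v.x5 := by simp [ce, u4]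
      rw [← this]; exact e3
    apply v5
    linear_combination -e4 - w3
  · push Not at hE
    obtain ⟨q, hq, hq1⟩ := hE
    rw [mem_E1] at hq1
    have u9Q : u9 ∈ Q := by
      apply hQ
      rw [N5_mul u9 v u9_N5]
      congr 1
      ext <;> simp [cx, u9, w1]
    have e1 : u9 * q = q * u9 * zt q.x1 := by
      rw [N5_mul u9 q u9_N5, mul_assoc]
      congr 1
      rw [mul_zt]
      ext <;> simp [cx, u9]
    obtain ⟨a, ha, rfl⟩ := hv
    have e2 := congrArg a e1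
    rw [← u10_pow_val, h.mul a ha _ u9Q _ hq, h.mul a ha _ (mul_mem hq u9Q) _ (pow_mem (u10_Q h) _),
      h.mul a ha _ hq _ u9Q, h.map_pow ha (u10_Q h)] at e2
    have claim : ∀ x ∈ Q, ∀ y ∈ Q, ∃ n ∈ N5, x * y = y * x * n := by
      intro x hx y hy
      have x2 := hx2 x hx
      have y2 := hx2 y hy
      refine ⟨_, ⟨rfl, rfl, rfl, rfl, rfl⟩, exists_N5 (x * y) (y * x) ?_ ?_ ?_ ?_ ?_⟩
      · rw [mul_x1, mul_x1, add_comm]
      · rw [mul_x2, mul_x2, add_comm]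
      · rw [mul_x3, mul_x3, x2, y2]; ring
      · rw [mul_x4, mul_x4, x2, y2]
        have h3 := hx3 x hx
        have h3' := hx3 y hy
        have : (a u10).x5 * (x.x3 * y.x1 - y.x3 * x.x1) = 0 := by
          linear_combination y.x1 * h3 - x.x1 * h3'
        have := (mul_eq_zero.1 this).resolve_left v5
        linear_combination -this
      · rw [mul_x5, mul_x5, x2, y2]; ring
    obtain ⟨n, hn, e3⟩ := claim _ (h.maps a ha _ u9Q) _ (h.maps a ha _ hq)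
    rw [e3] at e2
    have e4 := mul_left_cancel e2
    have e5 := congrArg V.x5 e4
    rw [hn.2.2.2.2, X6_pow_x5 ⟨w1, w2, w3, w4⟩, ZMod.natCast_zmod_val] at e5
    exact mul_ne_zero hq1 v5 e5.symm

end Cfsg.Agent.H347.Th
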