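import Cfsg.Agent.H347.Th.CaseA
import Cfsg.Agent.H38.ThT1

/-!
# Essential subgroups of the Sylow 3-subgroup of Th which move the centre (helper347, task 1134)
-/

set_option autoImplicit false
set_option linter.style.longLine false

namespace Cfsg.Agent.H347.Th

open Subgroup Cfsg.Agent.H776.ThS

variable {Q : Subgroup P} {A : Set (P → P)}

/-- rank two: the commutators with `N5` cover `Z2` -/
theorem cover (a0 a1 a2 a3 : ZMod 3) (h : ¬ (a0 * a2 = a1 ^ 2 ∧ a1 * a3 = a2 ^ 2 ∧ a0 * a3 = a1 * a2)) (s t : ZMod 3) :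
    ∃ n6 n7 n8 : ZMod 3, a1 * n6 + a2 * n7 + a3 * n8 = s ∧ a0 * n6 + a1 * n7 + a2 * n8 = t := by
  have key : ∀ d : ZMod 3, d ≠ 0 → d * d = 1 := by decide
  by_cases h1 : a0 * a2 = a1 ^ 2
  · by_cases h2 : a1 * a3 = a2 ^ 2
    · have h3 : a1 * a2 - a0 * a3 ≠ 0 := fun e => h ⟨h1, h2, by linear_combination -e⟩
      have hd := key _ h3
      refine ⟨(a1 * a2 - a0 * a3) * (a2 * s - a3 * t), 0, (a1 * a2 - a0 * a3) * (a1 * t - a0 * s), ?_, ?_⟩
      · linear_combination s * hd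
      · linear_combination t * hd
    · have h3 : a2 ^ 2 - a1 * a3 ≠ 0 := fun e => h2 (by linear_combination -e)
      have hd := key _ h3
      refine ⟨0, (a2 ^ 2 - a1 * a3) * (a2 * s - a3 * t), (a2 ^ 2 - a1 * a3) * (a2 * t - a1 * s), ?_, ?_⟩
      · linear_combination s * hd
      · linear_combination t * hd
  · have h3 : a1 ^ 2 - a0 * a2 ≠ 0 := fun e => h1 (by linear_combination -e)
    have hd := key _ h3
    refine ⟨(a1 ^ 2 - a0 * a2) * (a1 * s - a2 * t), (a1 ^ 2 - a0 * a2) * (a1 * t - a0 * s), 0, ?_, ?_⟩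
    · linear_combination s * hd
    · linear_combination t * hd

/-- commutators of elements of `E1` with elements of `N5` -/
theorem cx_E1 {n x : P} (hn : n ∈ N5) (hx : x.x1 = 0) : cx n x = n * ⟨0, 0, 0, 0, 0, 0, 0, 0,
    (x.x2 - x.x4) * n.x6 + (-x.x3) * n.x7 + (-x.x2) * n.x8,
    (x.x5 + x.x3) * n.x6 + (x.x2 - x.x4) * n.x7 + (-x.x3) * n.x8⟩ := by
  rw [mulN _ _ ⟨rfl, rfl, rfl, rfl, rfl⟩]
  obtain ⟨h1, h2, h3, h4, h5⟩ := hn
  ext <;> simp [cx, hx, h1, h2, h3, h4, h5] <;> ring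

/-- (iii-b) -/
theorem case_iiib (T : T1Z) (h : Ctx Q A) (hSE : SE Q A Z1) (hmov : ∃ a ∈ A, a u10 ∉ Z1)
    (hE : ∀ o ∈ Orb A, o ∈ E1) (hc : ∃ o ∈ Orb A, o ∉ X6) : False := by
  have hne : ∀ o ∈ Orb A, o ∉ X6 → o.x2 ≠ 0 ∨ o.x3 ≠ 0 := by
    intro o ho hoX
    by_contra hcon
    push Not at hcon
    exact hoX (mem_X6_of_cube (orb_cube h ho) ⟨mem_E1.1 (hE o ho), hcon.1, hcon.2⟩)
  obtain ⟨v, hv, hvX⟩ := hc
  have v1 := mem_E1.1 (hE v hv)
  have v23 := hne v hv hvX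
  have hQE : ∀ x ∈ Q, x ∈ E1 := by
    intro x hx
    have e := orb_comm h hv hx
    have e3 := congrArg V.x3 e
    have e4 := congrArg V.x4 e
    rw [mul_x3, mul_x3, v1] at e3
    rw [mul_x4, mul_x4, v1] at e4
    rw [mem_E1]
    have h1 : v.x2 * x.x1 = 0 := by linear_combination -e3
    have h2 : v.x3 * x.x1 = 0 := by linear_combination e4 + x.x1 * h1
    rcases v23 with h0 | h0
    · exact (mul_eq_zero.1 h1).resolve_left h0
    · exact (mul_eq_zero.1 h2).resolve_left h0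
  have hZ2Q : ∀ z ∈ Z2, z ∈ Q := fun z hz => mem_Q h hSE hmov fun o ho => Z2_E1_comm hz (hE o ho)
  have hN5 : ∀ n ∈ N5, n ∈ normalizer (Q : Set P) := by
    intro n hn
    apply mem_normalizer_of
    intro x hx
    have x1 := mem_E1.1 (hQE x hx)
    rw [N5_mul n x hn, cx_E1 hn x1, ← mul_assoc]
    have hz : (⟨0, 0, 0, 0, 0, 0, 0, 0, (x.x2 - x.x4) * n.x6 + (-x.x3) * n.x7 + (-x.x2) * n.x8,
      (x.x5 + x.x3) * n.x6 + (x.x2 - x.x4) * n.x7 + (-x.x3) * n.x8⟩ : P) ∈ Z2 :=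
      ⟨rfl, rfl, rfl, rfl, rfl, rfl, rfl, rfl⟩
    rw [mul_assoc x, N5_comm hn (Z2_N5 hz), ← mul_assoc, mul_inv_cancel_right]
    exact mul_mem hx (hZ2Q _ hz)
  -- an element of `N5` outside `Q`
  have hout : ∃ n ∈ N5, n ∉ Q := by
    rcases v23 with h0 | h0
    · refine ⟨u8, u8_N5, fun hq => h0 ?_⟩
      have e := congrArg V.x9 (cx_eq u8_N5 (orb_comm h hv hq))
      rw [cx_E1 u8_N5 v1, mulN _ _ ⟨rfl, rfl, rfl, rfl, rfl⟩] at e
      simpa [u8] using e
    · refine ⟨u7, u7_N5, fun hq => h0 ?_⟩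
      have e := congrArg V.x9 (cx_eq u7_N5 (orb_comm h hv hq))
      rw [cx_E1 u7_N5 v1, mulN _ _ ⟨rfl, rfl, rfl, rfl, rfl⟩] at e
      simpa [u7] using e
  have h1 : ∀ o ∈ Orb A, o ∈ N5 → o ∈ Z1 := by
    rintro _ ⟨a, ha, rfl⟩ hoN
    obtain ⟨n, hn, hnQ⟩ := hout
    have hfix : ∀ b ∈ A, b u10 ∈ N5 → ∀ w ∈ Z1, ∃ w' ∈ Z1, n * b w * n⁻¹ = b w' := by
      intro b hb hbN w hw
      refine ⟨w, hw, ?_⟩
      rw [Z1_pow hw, h.map_pow hb (u10_Q h)]
      have c : Commute n (b u10) := N5_comm hn hbN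
      rw [(c.pow_right _).eq, mul_inv_cancel_right]
    obtain ⟨w', hw', e⟩ := SE.conj hSE h (hN5 n hn) hnQ ha h.id_mem (hfix a ha hoN)
      (hfix _ h.id_mem (Z1_N5 u10_mem)) u10 u10_mem
    rw [e]
    exact hw'
  by_cases r1 : ∃ o ∈ Orb A, o ∉ X6 ∧ Rk1 o
  · obtain ⟨o, ho, hoX, hr⟩ := r1
    have o1 := mem_E1.1 (hE o ho)
    have o23 := hne o ho hoX
    have hmul : ∀ o' ∈ Orb A, ∃ k : ZMod 3, o'.x2 = k * o.x2 ∧ o'.x3 = k * o.x3 ∧ o'.x4 = k * o.x4 ∧
        o'.x5 = k * o.x5 := by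
      intro o' ho'
      have e := orb_comm h ho (orb_Q h ho')
      rw [E1_mul o' o (hE o' ho') (hE o ho)] at e
      have e1 : ce o' o = 1 := mul_eq_left.1 e
      have e6 := congrArg V.x6 e1
      have e7 := congrArg V.x7 e1
      have e8 := congrArg V.x8 e1
      apply rank1_cent o23 hr
      · have : o'.x5 * o.x2 - o.x5 * o'.x2 = 0 := e6
        linear_combination this
      · have : o'.x5 * o.x3 - o'.x4 * o.x2 - o.x5 * o'.x3 + o.x4 * o'.x2 = 0 := e7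
        linear_combination this
      · have : o'.x5 * o.x4 - o'.x4 * o.x3 - o.x5 * o'.x4 + o.x4 * o'.x3 = 0 := e8
        linear_combination this
    -- a common argument
    have aux : ∀ y ∈ N5, (o.x2 - o.x4) * y.x6 + (-o.x3) * y.x7 + (-o.x2) * y.x8 ≠ 0 → False := by
      intro y hy hy0
      let r : P := ⟨0, 0, 0, 0, 0, 0, 0, 0, (o.x2 - o.x4) * y.x6 + (-o.x3) * y.x7 + (-o.x2) * y.x8,
        (o.x5 + o.x3) * y.x6 + (o.x2 - o.x4) * y.x7 + (-o.x3) * y.x8⟩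
      have hrN : r ∈ N5 := ⟨rfl, rfl, rfl, rfl, rfl⟩
      have hyr : y * r = r * y := N5_comm hy hrN
      have hyo : y * o = o * y * r := by
        rw [N5_mul y o hy, cx_E1 hy o1, ← mul_assoc]
      have hyQ : y ∉ Q := by
        intro hyQ
        have e := orb_comm h ho hyQ
        rw [hyo] at e
        have e1 : r = 1 := mul_eq_left.1 e
        exact hy0 (congrArg V.x9 e1)
      have hrV : r ∈ closure {x | ∃ a ∈ A, x = a u10} := by
        have e0 : y * o * y⁻¹ = o * r := by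
          rw [hyo, mul_assoc o, hyr, ← mul_assoc, mul_inv_cancel_right]
        have e1 : r = o⁻¹ * (y * o * y⁻¹) := by
          rw [e0, inv_mul_cancel_left]
        rw [e1]
        refine mul_mem (inv_mem (subset_closure ho)) (subset_closure ?_)
        exact orb_map h (h.conj y (hN5 y hy)) ho
      obtain ⟨hrZ, -⟩ := T Q A h hSE hmov y r (hN5 y hy) hyQ hrV (N5_cube hrN) hyr (by
        intro a ha
        obtain ⟨k, k2, k3, k4, k5⟩ := hmul (a u10) ⟨a, ha, rfl⟩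
        have a1 := mem_E1.1 (hE (a u10) ⟨a, ha, rfl⟩)
        refine ⟨k.val, ?_⟩
        rw [N5_mul y _ hy, cx_E1 hy a1, N5_pow hrN, ZMod.natCast_zmod_val]
        have e2 : (⟨0, 0, 0, 0, 0, 0, 0, 0, ((a u10).x2 - (a u10).x4) * y.x6 + (-(a u10).x3) * y.x7 + (-(a u10).x2) * y.x8,
          ((a u10).x5 + (a u10).x3) * y.x6 + ((a u10).x2 - (a u10).x4) * y.x7 + (-(a u10).x3) * y.x8⟩ : P) =
          ⟨0, 0, 0, 0, 0, k * r.x6, k * r.x7, k * r.x8, k * r.x9, k * r.x10⟩ := by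
          ext <;> simp only [r, k2, k3, k4, k5, mul_zero]
          · ring
          · ring
        rw [e2]
        have hzN : (⟨0, 0, 0, 0, 0, k * r.x6, k * r.x7, k * r.x8, k * r.x9, k * r.x10⟩ : P) ∈ N5 :=
          ⟨rfl, rfl, rfl, rfl, rfl⟩
        rw [N5_comm hy hzN, ← mul_assoc, mul_inv_cancel_right])
      exact hy0 hrZ.2.2.2.2.2.2.2.2
    rcases o23 with h0 | h0
    · exact aux u8 u8_N5 (by simpa [u8] using h0)
    · exact aux u7 u7_N5 (by simpa [u7] using h0)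
  · -- rank two
    have h2 : ∀ o ∈ Orb A, o ∉ N5 → ∀ z ∈ Z2, o * z ∈ Orb A := by
      intro o ho hoN z hz
      have o1 := mem_E1.1 (hE o ho)
      have hoX : o ∉ X6 := by
        intro hoX
        obtain ⟨w1, w2, w3, w4⟩ := hoX
        have e := orb_comm h ho (orb_Q h hv)
        rw [E1_mul v o (hE v hv) (hE o ho)] at e
        have e1 : ce v o = 1 := mul_eq_left.1 e
        have e6 : v.x5 * o.x2 - o.x5 * v.x2 = 0 := congrArg V.x6 e1
        have e7 : v.x5 * o.x3 - v.x4 * o.x2 - o.x5 * v.x3 + o.x4 * v.x2 = 0 := congrArg V.x7 e1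
        have o5 : o.x5 ≠ 0 := fun o5 => hoN ⟨w1, w2, w3, w4, o5⟩
        rcases v23 with h0 | h0
        · have : o.x5 * v.x2 = 0 := by linear_combination -e6 + v.x5 * w2
          exact mul_ne_zero o5 h0 this
        · have : o.x5 * v.x3 = 0 := by linear_combination -e7 + v.x5 * w3 - v.x4 * w2 + v.x2 * w4
          exact mul_ne_zero o5 h0 this
      have hnr : ¬ Rk1 o := fun hr => r1 ⟨o, ho, hoX, hr⟩
      obtain ⟨n6, n7, n8, c1, c2⟩ := cover (o.x5 + o.x3) (o.x2 - o.x4) (-o.x3) (-o.x2)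
        (fun hh => hnr ⟨hh.1, by linear_combination hh.2.1, hh.2.2⟩) z.x9 z.x10
      let n : P := ⟨0, 0, 0, 0, 0, n6, n7, n8, 0, 0⟩
      have hn : n ∈ N5 := ⟨rfl, rfl, rfl, rfl, rfl⟩
      have hzz : (⟨0, 0, 0, 0, 0, 0, 0, 0, (o.x2 - o.x4) * n.x6 + (-o.x3) * n.x7 + (-o.x2) * n.x8,
        (o.x5 + o.x3) * n.x6 + (o.x2 - o.x4) * n.x7 + (-o.x3) * n.x8⟩ : P) = z := by
        obtain ⟨z1, z2, z3, z4, z5, z6, z7, z8⟩ := hz
        ext
        · exact z1.symm
        · exact z2.symm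
        · exact z3.symm
        · exact z4.symm
        · exact z5.symm
        · exact z6.symm
        · exact z7.symm
        · exact z8.symm
        · exact c1
        · exact c2
      have e : n * o * n⁻¹ = o * z := by
        rw [N5_mul n o hn, cx_E1 hn o1, hzz, N5_comm hn (Z2_N5 hz), ← mul_assoc, mul_inv_cancel_right]
      rw [← e]
      exact orb_map h (h.conj n (hN5 n hn)) ho
    obtain ⟨a, ha, haz⟩ := hmov
    obtain ⟨g, hg, hag⟩ := h.inv a ha
    have haN : a u10 ∉ N5 := fun hN => haz (h1 _ ⟨a, ha, rfl⟩ hN)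
    have key : ∀ z ∈ Z2, z ∉ Z1 → g z ∈ Z2 := by
      intro z hz hzZ
      by_contra hgz
      apply hzZ
      have hzQ := hZ2Q z hz
      have hlQ := h.maps g hg z hzQ
      -- `u10 * g z` is in the orbit
      obtain ⟨b, hb, e⟩ := h2 _ ⟨a, ha, rfl⟩ haN z hz
      have e1 : u10 * g z = g (b u10) := by
        rw [← e, h.mul g hg _ (h.maps a ha _ (u10_Q h)) _ hzQ, (hag u10 (u10_Q h)).1]
      have hul : u10 * g z ∈ Orb A := by
        rw [e1]
        exact orb_map h hg ⟨b, hb, rfl⟩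
      have hulN : u10 * g z ∉ N5 := by
        intro hN
        have h3 := h1 _ hul hN
        apply hgz
        have h4 : g z = u10⁻¹ * (u10 * g z) := by group
        rw [h4]
        exact mul_mem (inv_mem (Z1_Z2 u10_mem)) (Z1_Z2 h3)
      have h3 := h2 _ hul hulN u10⁻¹ (inv_mem (Z1_Z2 u10_mem))
      have h4 : u10 * g z * u10⁻¹ = g z := by rw [Z1_comm u10_mem, mul_inv_cancel_right]
      rw [h4] at h3
      have h5 := orb_map h ha h3
      rw [(hag z hzQ).2] at h5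
      exact h1 _ h5 (Z2_N5 hz)
    have u9Z : u9 ∈ Z2 := ⟨rfl, rfl, rfl, rfl, rfl, rfl, rfl, rfl⟩
    have u9n : u9 ∉ Z1 := fun hz => absurd hz.2.2.2.2.2.2.2.2 (by decide)
    have k1 := key u9 u9Z u9n
    have k2 := key (u9 * u10) (mul_mem u9Z (Z1_Z2 u10_mem)) (fun hz => u9n (by
      have e : u9 = u9 * u10 * u10⁻¹ := by group
      rw [e]
      exact mul_mem hz (inv_mem u10_mem)))
    rw [h.mul g hg _ (hZ2Q _ u9Z) _ (u10_Q h)] at k2
    have k3 : g u10 ∈ Z2 := by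
      have e : g u10 = (g u9)⁻¹ * (g u9 * g u10) := by group
      rw [e]
      exact mul_mem (inv_mem k1) k2
    have k4 : g u10 ∈ Z1 := h1 _ ⟨g, hg, rfl⟩ (Z2_N5 k3)
    -- `a` maps the centre to itself
    have hne0 : (g u10).x10 ≠ 0 := by
      intro h0
      have e := Z1_eq k4
      rw [h0] at e
      have e1 : g u10 = g 1 := by rw [h.one hg, e]; rfl
      have e2 := h.inj hg (u10_Q h) (one_mem Q) e1
      exact absurd (congrArg V.x10 e2) (by decide)
    have e3 := (hag u10 (u10_Q h)).2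
    rw [Z1_pow k4, h.map_pow ha (u10_Q h)] at e3
    have key2 : ∀ t : ZMod 3, t ≠ 0 → t.val * t.val % 3 = 1 := by decide
    have hk := key2 _ hne0
    have ho3 := orb_cube h ⟨a, ha, rfl⟩
    apply haz
    have e4 : a u10 = u10 ^ (g u10).x10.val := by
      generalize (g u10).x10.val = t at e3 hk
      calc a u10 = a u10 ^ (t * t) := by
            rw [← Nat.mod_add_div (t * t) 3, hk, pow_add, pow_mul, ho3, one_pow, mul_one, pow_one]
        _ = u10 ^ t := by rw [pow_mul, e3]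
    rw [e4]
    exact u10_pow_mem _

/-- Theorem I, from `t1z` -/
theorem thmI_of (T : T1Z) (h : Ctx Q A) (hSE : SE Q A Z1) (hmov : ∃ a ∈ A, a u10 ∉ Z1) : Q = E1 := by
  by_cases c1 : ∃ o ∈ Orb A, o ∉ E1
  · exact (case_i T h hSE hmov c1).elim
  push Not at c1
  by_cases c2 : ∃ o ∈ Orb A, o ∉ X6
  · exact (case_iiib T h hSE hmov c1 c2).elim
  push Not at c2
  by_cases c3 : ∃ o ∈ Orb A, o ∉ N5
  · exact (case_iiia T h hSE hmov c2 c3).elim
  push Not at c3
  by_cases c4 : ∃ o ∈ Orb A, o ∉ Z2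
  · exact (case_ii T h hSE hmov c3 c4).elim
  push Not at c4
  obtain ⟨a, ha, haz⟩ := hmov
  have ho : a u10 ∈ Orb A := ⟨a, ha, rfl⟩
  have h9 : (a u10).x9 ≠ 0 := by
    intro h9
    obtain ⟨h1, h2, h3, h4, h5, h6, h7, h8⟩ := c4 _ ho
    exact haz ⟨h1, h2, h3, h4, h5, h6, h7, h8, h9⟩
  apply le_antisymm
  · intro x hx
    have e := cx_eq (c3 _ ho) (orb_comm h ho hx).symm
    obtain ⟨h1, h2, h3, h4, h5, h6, h7, h8⟩ := c4 _ ho
    have e' := congrArg V.x10 e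
    simp only [cx, h6, h7, h8] at e'
    have : x.x1 * (a u10).x9 = 0 := by linear_combination e'
    exact (mul_eq_zero.1 this).resolve_right h9
  · intro x hx
    exact mem_Q h hSE ⟨a, ha, haz⟩ fun o ho => (Z2_E1_comm (c4 o ho) hx).symm

/-- **Theorem I** -/
theorem thmI {Q : Subgroup P} {A : Set (P → P)} (h : Ctx Q A) (hSE : SE Q A Z1) (hmov : ∃ a ∈ A, a u10 ∉ Z1) :
    Q = E1 :=
  thmI_of (fun _ _ h hSE hmov _ _ hy hyQ hr hr3 hyr hyv => Cfsg.Agent.H38.ThT1.t1z h hSE hmov hy hyQ hr hr3 hyr hyv) h hSE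
    hmov

end Cfsg.Agent.H347.Th
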